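import Cfsg.Agent.Lib.M23Cocode.Data
import Cfsg.Agent.Lib.Golay.CodeDual
import Cfsg.Prelude.Def_Spor_Mathieu

/-!
The code words vanishing at the extra point as `Fin 11 → ZMod 2`, with the action of `M₂₃`, and a
function of two arguments whose failure to be biadditive is the intersection parity.
-/

set_option autoImplicit false
set_option maxRecDepth 100000

namespace CfsgLib.M23Cocode

open Cfsg
open scoped Pointwise

/-- Coordinates for the shortened code. -/
abbrev CVec : Type := Fin 11 → ZMod 2

/-- A bit as an element of `ZMod 2`. -/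
def bit2 (m j : ℕ) : ZMod 2 := if m.testBit j then 1 else 0

/-- A mask as a coordinate vector. -/
def toCVec (m : ℕ) : CVec := fun i => bit2 m i.val

/-- The basis words. -/
def cB (i : Fin 11) : GolayPt → ZMod 2 := Golay.toWord (Data.basisMasks.getD i.val 0)

/-- The pivots. -/
def cPiv (i : Fin 11) : GolayPt := Golay.pt (Data.pivotPts.getD i.val 0)

/-- The word of a coordinate vector. -/
def cW : CVec →ₗ[ZMod 2] GolayPt → ZMod 2 where
  toFun x p := ∑ i, x i * cB i p
  map_add' x y := funext fun p => by simp [add_mul, Finset.sum_add_distrib]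
  map_smul' c x := funext fun p => by simp [Finset.mul_sum, mul_assoc]

/-- The coordinates of a word. -/
def cX : (GolayPt → ZMod 2) →ₗ[ZMod 2] CVec where
  toFun w i := w (cPiv i)
  map_add' _ _ := rfl
  map_smul' _ _ := rfl

theorem cB_piv : ∀ i j : Fin 11, cB i (cPiv j) = if i = j then 1 else 0 := by decide +kernel

theorem cX_cW (x : CVec) : cX (cW x) = x := by
  funext j
  show ∑ i, x i * cB i (cPiv j) = x j
  simp only [cB_piv, mul_ite, mul_one, mul_zero, Finset.sum_ite_eq', Finset.mem_univ, if_true]

theorem cW_injective : Function.Injective cW := fun x y e => by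
  rw [← cX_cW x, ← cX_cW y, e]

theorem cB_none : ∀ i : Fin 11, cB i none = 0 := by decide +kernel

theorem cW_none (x : CVec) : cW x none = 0 :=
  show ∑ i, x i * cB i none = 0 from Finset.sum_eq_zero fun i _ => by rw [cB_none, mul_zero]

/-- The retraction of the code onto the shortened code. -/
def retr : (GolayPt → ZMod 2) →ₗ[ZMod 2] GolayPt → ZMod 2 where
  toFun w := cW (cX w) + w none • ((1 : GolayPt → ZMod 2) + cW (cX 1))
  map_add' v w := by
    simp only [map_add, Pi.add_apply, add_smul]
    abel
  map_smul' c w := by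
    simp only [map_smul, Pi.smul_apply, RingHom.id_apply, smul_add, smul_eq_mul, mul_smul]

theorem retr_code {w : GolayPt → ZMod 2} (hw : w ∈ golayCode) : retr w = w := by
  refine (LinearMap.eqOn_span (R := ZMod 2) (f := retr) (g := LinearMap.id) ?_) hw
  intro v hv
  funext p
  revert p
  rcases hv with ⟨t, rfl⟩ | rfl
  · revert t
    decide +kernel
  · decide +kernel

theorem cW_cX_of_mem {w : GolayPt → ZMod 2} (hw : w ∈ golayCode) (h0 : w none = 0) :
    cW (cX w) = w := by
  have h := retr_code hw
  change cW (cX w) + w none • ((1 : GolayPt → ZMod 2) + cW (cX 1)) = w at h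
  rwa [h0, zero_smul, add_zero] at h

theorem cB_mem : ∀ i, cB i ∈ golayCode := by
  intro i
  rw [Golay.golayCode_eq]
  refine ⟨Data.basisMasks.getD i.val 0, Golay.mem_golayList_of_inCode ?_, rfl⟩
  revert i
  decide +kernel

theorem cW_mem (x : CVec) : cW x ∈ golayCode := by
  have : cW x = ∑ i, x i • cB i := by
    funext p
    simp [cW, Finset.sum_apply]
  rw [this]
  exact sum_mem fun i _ => Submodule.smul_mem _ _ (cB_mem i)

theorem eq_of_support {v w : GolayPt → ZMod 2} (h : support₂ v = support₂ w) : v = w := by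
  funext p
  have h1 : v p ≠ 0 ↔ w p ≠ 0 := by simpa [support₂] using Finset.ext_iff.1 h p
  revert h1
  generalize v p = a
  generalize w p = b
  revert a b
  decide

theorem comp_inv_mem {σ : Equiv.Perm GolayPt} (hσ : σ ∈ M24) {w : GolayPt → ZMod 2}
    (hw : w ∈ golayCode) : w ∘ ⇑σ⁻¹ ∈ golayCode := by
  have h := MulAction.mem_stabilizer_iff.1 hσ
  have hmem : σ • support₂ w ∈ σ • supports (golayCode : Set (GolayPt → ZMod 2)) :=
    Set.smul_mem_smul_set ⟨w, hw, rfl⟩
  rw [h] at hmem
  obtain ⟨v, hv, hve⟩ := hmem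
  have : v = w ∘ ⇑σ⁻¹ := by
    refine eq_of_support (hve.trans ?_)
    ext p
    simp [Finset.mem_smul_finset, support₂]
    constructor
    · rintro ⟨q, hq, rfl⟩
      simpa using hq
    · intro hp
      exact ⟨σ⁻¹ p, hp, by simp⟩
  exact this ▸ hv

theorem m23_none (σ : ↥Spor.M23) : (σ : Equiv.Perm GolayPt) none = none :=
  MulAction.mem_stabilizer_iff.1 σ.2.2

/-- The action on coordinates. -/
def sV (σ : ↥Spor.M23) : CVec →ₗ[ZMod 2] CVec :=
  cX.comp ((LinearMap.funLeft (ZMod 2) (ZMod 2) ⇑((σ : Equiv.Perm GolayPt))⁻¹).comp cW)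

theorem cW_sV (σ : ↥Spor.M23) (x : CVec) (p : GolayPt) :
    cW (sV σ x) p = cW x ((σ : Equiv.Perm GolayPt)⁻¹ p) := by
  have h : cW (cX (cW x ∘ ⇑((σ : Equiv.Perm GolayPt))⁻¹)) = cW x ∘ ⇑((σ : Equiv.Perm GolayPt))⁻¹ := by
    refine cW_cX_of_mem (comp_inv_mem σ.2.1 (cW_mem x)) ?_
    rw [Function.comp_apply, show ((σ : Equiv.Perm GolayPt))⁻¹ none = none by
      rw [Equiv.Perm.inv_def, Equiv.symm_apply_eq, m23_none]]
    exact cW_none x
  exact congrFun h p

theorem sV_one (x : CVec) : sV 1 x = x := cW_injective (funext fun p => by simp [cW_sV])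

theorem sV_mul (σ τ : ↥Spor.M23) (x : CVec) : sV (σ * τ) x = sV σ (sV τ x) :=
  cW_injective (funext fun p => by simp [cW_sV, mul_inv_rev, Equiv.Perm.mul_apply])

theorem sV_inv (σ : ↥Spor.M23) (x : CVec) : sV σ (sV σ⁻¹ x) = x := by
  rw [← sV_mul, mul_inv_cancel, sV_one]

/-- The coefficient of `x i * x j * y l`. -/
def thP (i j l : Fin 11) : ZMod 2 := bit2 ((Data.cubicMasks.getD l.val []).getD i.val 0) j.val

/-- The coefficient of `x i * y l`. -/
def thL (i l : Fin 11) : ZMod 2 := bit2 (Data.linearMasks.getD i.val 0) l.val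

/-- The cocycle. -/
def theta (x y : CVec) : ZMod 2 := ∑ l, y l * ∑ i, x i * (thL i l + ∑ j, thP i j l * x j)

/-- The intersection parity. -/
def tri (x y z : CVec) : ZMod 2 := ∑ p, cW x p * cW y p * cW z p

theorem ext_additive {f g : CVec → ZMod 2} (hf : ∀ a b, f (a + b) = f a + f b)
    (hg : ∀ a b, g (a + b) = g a + g b) (h : ∀ i, f (Pi.single i 1) = g (Pi.single i 1))
    (x : CVec) : f x = g x := by
  have e : AddMonoidHom.mk' f hf = AddMonoidHom.mk' g hg := by
    refine AddMonoidHom.functions_ext _ _ _ fun i c => ?_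
    obtain rfl | rfl : c = 0 ∨ c = 1 := by revert c; decide
    · rw [Pi.single_zero, map_zero, map_zero]
    · exact h i
  exact DFunLike.congr_fun e x

theorem theta_add_right (x y z : CVec) : theta x (y + z) = theta x y + theta x z := by
  simp only [theta, Pi.add_apply, add_mul, Finset.sum_add_distrib]

/-- The polarisation of the cocycle in its first argument. -/
def thPolar (x x' y : CVec) : ZMod 2 :=
  ∑ l, y l * ∑ i, (x i * ∑ j, thP i j l * x' j + x' i * ∑ j, thP i j l * x j)

theorem quad_add (P : Fin 11 → Fin 11 → ZMod 2) (L x x' : CVec) :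
    ∑ i, (x i + x' i) * (L i + ∑ j, P i j * (x j + x' j)) =
      (∑ i, x i * (L i + ∑ j, P i j * x j)) + (∑ i, x' i * (L i + ∑ j, P i j * x' j)) +
        ∑ i, (x i * ∑ j, P i j * x' j + x' i * ∑ j, P i j * x j) := by
  rw [← Finset.sum_add_distrib, ← Finset.sum_add_distrib]
  refine Finset.sum_congr rfl fun i _ => ?_
  have h : ∑ j, P i j * (x j + x' j) = ∑ j, P i j * x j + ∑ j, P i j * x' j := by
    rw [← Finset.sum_add_distrib]
    exact Finset.sum_congr rfl fun j _ => mul_add _ _ _
  rw [h]
  ring

theorem theta_add_left (x x' y : CVec) :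
    theta (x + x') y = theta x y + theta x' y + thPolar x x' y := by
  unfold theta thPolar
  rw [← Finset.sum_add_distrib, ← Finset.sum_add_distrib]
  refine Finset.sum_congr rfl fun l _ => ?_
  rw [← mul_add, ← mul_add]
  exact congrArg (y l * ·) (quad_add (fun i j => thP i j l) (fun i => thL i l) x x')

theorem polar_add_left (P : Fin 11 → Fin 11 → ZMod 2) (a b z : CVec) :
    ∑ i, ((a + b) i * ∑ j, P i j * z j + z i * ∑ j, P i j * (a + b) j) =
      (∑ i, (a i * ∑ j, P i j * z j + z i * ∑ j, P i j * a j)) +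
        ∑ i, (b i * ∑ j, P i j * z j + z i * ∑ j, P i j * b j) := by
  rw [← Finset.sum_add_distrib]
  refine Finset.sum_congr rfl fun i _ => ?_
  have h : ∑ j, P i j * (a + b) j = ∑ j, P i j * a j + ∑ j, P i j * b j := by
    rw [← Finset.sum_add_distrib]
    exact Finset.sum_congr rfl fun j _ => mul_add _ _ _
  rw [h, Pi.add_apply]
  ring

theorem thPolar_comm (x x' y : CVec) : thPolar x x' y = thPolar x' x y := by
  unfold thPolar
  exact Finset.sum_congr rfl fun l _ => congrArg (y l * ·) (Finset.sum_congr rfl fun i _ => add_comm _ _)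

theorem thPolar_add (a b z y : CVec) : thPolar (a + b) z y = thPolar a z y + thPolar b z y := by
  unfold thPolar
  rw [← Finset.sum_add_distrib]
  refine Finset.sum_congr rfl fun l _ => ?_
  rw [← mul_add]
  exact congrArg (y l * ·) (polar_add_left (fun i j => thP i j l) a b z)

theorem polar_single (P : Fin 11 → Fin 11 → ZMod 2) (i j : Fin 11) :
    ∑ k, ((Pi.single i 1 : CVec) k * ∑ m, P k m * (Pi.single j 1 : CVec) m +
      (Pi.single j 1 : CVec) k * ∑ m, P k m * (Pi.single i 1 : CVec) m) = P i j + P j i := by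
  simp only [Pi.single_apply, mul_ite, mul_one, mul_zero, ite_mul, one_mul, zero_mul,
    Finset.sum_ite_eq', Finset.mem_univ, if_true, Finset.sum_add_distrib]

theorem thPolar_single (i j l : Fin 11) :
    thPolar (Pi.single i 1) (Pi.single j 1) (Pi.single l 1) = thP i j l + thP j i l := by
  unfold thPolar
  rw [Finset.sum_eq_single l (fun k _ hk => by rw [Pi.single_eq_of_ne hk, zero_mul])
    (fun h => absurd (Finset.mem_univ l) h), Pi.single_eq_same, one_mul]
  exact polar_single (fun i j => thP i j l) i j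

theorem thPolar_basis : ∀ i j l : Fin 11,
    thP i j l + thP j i l = ∑ p, cB i p * cB j p * cB l p := by decide +kernel

theorem cW_single (i : Fin 11) (p : GolayPt) : cW (Pi.single i 1) p = cB i p := by
  simp [cW, Pi.single_apply]

theorem thPolar_eq_tri (x x' y : CVec) : thPolar x x' y = tri x x' y := by
  refine ext_additive (f := fun y => thPolar x x' y) (g := fun y => tri x x' y) ?_ ?_ (fun l => ?_) y
  · intro a b
    unfold thPolar
    rw [← Finset.sum_add_distrib]
    exact Finset.sum_congr rfl fun k _ => add_mul _ _ _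
  · intro a b
    simp only [tri, map_add, Pi.add_apply, mul_add, Finset.sum_add_distrib]
  refine ext_additive (f := fun x' => thPolar x x' _) (g := fun x' => tri x x' _) ?_ ?_ (fun j => ?_) x'
  · intro a b
    show thPolar x (a + b) _ = thPolar x a _ + thPolar x b _
    rw [thPolar_comm, thPolar_add, thPolar_comm a, thPolar_comm b]
  · intro a b
    simp only [tri, map_add, Pi.add_apply, mul_add, add_mul, Finset.sum_add_distrib]
  refine ext_additive (f := fun x => thPolar x _ _) (g := fun x => tri x _ _) ?_ ?_ (fun i => ?_) x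
  · intro a b
    exact thPolar_add a b _ _
  · intro a b
    simp only [tri, map_add, Pi.add_apply, add_mul, Finset.sum_add_distrib]
  show thPolar _ _ _ = tri _ _ _
  rw [thPolar_single, thPolar_basis]
  simp only [tri, cW_single]

theorem tri_sV (σ : ↥Spor.M23) (x y z : CVec) : tri (sV σ x) (sV σ y) (sV σ z) = tri x y z := by
  simp only [tri, cW_sV]
  exact Equiv.sum_comp ((σ : Equiv.Perm GolayPt))⁻¹ fun p => cW x p * cW y p * cW z p

end CfsgLib.M23Cocode
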