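import Mathlib

/-!
Generated data for the extension of `M₂₃` by its cocode module: a basis of the code words vanishing
at the extra point, a quadratic cocycle, the two generators, and the certificate of non-splitting.
-/

set_option autoImplicit false

namespace CfsgLib.M23Cocode.Data

/-- Basis masks of the code words vanishing at the extra point. -/
def basisMasks : List ℕ := [4845570, 2422785, 7221256, 3610628, 8077824, 7903248, 5621792, 1009728, 2019456, 4038912, 5405696]

/-- Positions of the pivots of the basis. -/
def pivotPts : List ℕ := [1, 0, 3, 2, 9, 4, 5, 6, 7, 8, 10]

/-- The strictly triangular trilinear part of the cocycle. -/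
def cubicMasks : List (List ℕ) := [[0, 1304, 1128, 2032, 192, 384, 0, 512, 0, 1024, 0],
    [1304, 0, 600, 48, 2016, 128, 384, 1024, 0, 1024, 0],
    [1128, 600, 0, 320, 96, 192, 1920, 768, 0, 1024, 0],
    [2038, 52, 320, 0, 512, 1152, 640, 0, 1024, 1024, 0],
    [202, 2028, 96, 512, 0, 640, 1024, 256, 1024, 1024, 0],
    [396, 152, 208, 1152, 640, 0, 1152, 1792, 512, 1024, 0],
    [28, 404, 1976, 640, 1024, 1152, 0, 0, 512, 1024, 0],
    [568, 1136, 864, 96, 288, 1856, 0, 0, 0, 1024, 0],
    [42, 80, 200, 1024, 1152, 640, 512, 0, 0, 1024, 0],
    [1160, 1044, 1216, 1104, 1056, 1408, 1280, 1024, 1024, 0, 0],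
    [526, 656, 576, 800, 832, 704, 512, 512, 512, 0, 0]]

/-- The bilinear part of the cocycle. -/
def linearMasks : List ℕ := [0, 0, 0, 1, 2, 0, 4, 32, 0, 0, 512]

/-- Images of the basis under the translation and the cube twist. -/
def imageMasks : List (List ℕ) := [[10, 1, 34, 4, 1026, 66, 130, 256, 512, 16, 2],
    [528, 562, 564, 1696, 1024, 1544, 1056, 49, 1632, 1072, 1808]]

/-- The quadratic forms lifting the translation and the cube twist. -/
def quadMasks : List (List ℕ) := [[524, 0, 576, 0, 576, 704, 512, 0, 0, 1024, 0],
    [1174, 1824, 2032, 1104, 1312, 1856, 256, 0, 0, 1024, 0]]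

/-- The orbits of basis vectors along five relations. -/
def traces : List (Fin 11 × List (Bool × ℕ)) :=
  [(0, [(true, 528), (true, 48), (true, 520), (true, 656), (true, 1)]),
   (2, [(true, 564), (true, 1036), (true, 900), (true, 85), (true, 4)]),
   (0, [(false, 10), (true, 1170), (false, 1281), (true, 864), (false, 720), (true, 1057), (false, 74), (true, 178), (false, 1345), (true, 1856), (false, 656), (true, 1)]),
   (2, [(false, 34), (true, 1082), (false, 1095), (true, 294), (false, 609), (true, 1032), (false, 6), (true, 6), (false, 35), (true, 1578), (false, 85), (true, 4)]),
   (1, [(false, 1), (true, 528), (true, 48), (false, 1088), (true, 816), (true, 88), (false, 1156), (true, 1301), (true, 1364), (false, 1696), (true, 1305), (true, 448), (false, 898), (true, 83), (true, 2)]),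
   (9, [(false, 16), (true, 1024), (true, 1808), (false, 1552), (true, 1824), (true, 840), (false, 662), (true, 7), (true, 534), (false, 1073), (true, 1800), (true, 992), (false, 976), (true, 577), (true, 512)]),
   (3, [(false, 4), (false, 34), (true, 1082), (false, 1095), (false, 169), (true, 649), (false, 286), (false, 1573), (true, 1292), (false, 548), (false, 112), (true, 1576), (false, 84), (false, 1186), (true, 795), (false, 1565), (false, 1084), (true, 396), (false, 806), (false, 625), (true, 8)]),
   (6, [(false, 130), (false, 257), (true, 1136), (false, 1216), (false, 384), (true, 1617), (false, 1176), (false, 1284), (true, 836), (false, 688), (false, 1360), (true, 336), (false, 1664), (false, 274), (true, 82), (false, 1153), (false, 264), (true, 192), (false, 386), (false, 769), (true, 64)]),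
   (3, [(false, 4), (false, 34), (false, 67), (true, 1026), (false, 3), (false, 11), (true, 1666), (false, 275), (true, 578), (true, 546), (true, 10), (false, 5), (false, 40), (false, 70), (true, 1062), (false, 99), (false, 203), (true, 659), (false, 1305), (true, 448), (true, 625), (true, 8)])]

/-- Words of orders 23, 11, 7, 5 and 8. -/
def orderWords : List (List Bool) := [[false], [false, false, false, true, true, false, true], [false, false, true], [true], [false, false, false, true, true]]

/-- Two words for commuting elements of order three. -/
def threeWords : List Bool × List Bool := ([true, true, true, false, true, false, true, true, true], [false, false, false, false, true, false, true, false, false, false, false, false, true, false, true, false])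

end CfsgLib.M23Cocode.Data
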