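import Cfsg.Agent.Lib.M23Cocode.Basic
import Cfsg.Agent.Lib.Golay.M24
import Cfsg.Agent.Lib.Golay.Spor
import Cfsg.Agent.Lib.Golay.SimpleCriterion

/-!
The extension of `M₂₃` by the linear functions on the shortened code, as pairs of a permutation and
a shift, and its two generators.
-/

set_option autoImplicit false
set_option maxRecDepth 100000

namespace CfsgLib.M23Cocode

noncomputable section

open Cfsg

/-- A shift function compatible with a permutation. -/
def Compat (σ : ↥Spor.M23) (f : CVec → ZMod 2) : Prop :=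
  ∀ x y, f (x + y) + f x + f y = theta (sV σ x) (sV σ y) + theta x y

theorem compat_one : Compat 1 0 := fun x y => by
  simp [sV_one, CharTwo.add_self_eq_zero]

theorem compat_mul {σ τ : ↥Spor.M23} {f g : CVec → ZMod 2} (hf : Compat σ f) (hg : Compat τ g) :
    Compat (σ * τ) (fun x => f (sV τ x) + g x) := by
  intro x y
  have h1 := hf (sV τ x) (sV τ y)
  have h2 := hg x y
  have h3 : theta (sV τ x) (sV τ y) + theta (sV τ x) (sV τ y) = 0 := CharTwo.add_self_eq_zero _
  simp only [map_add, sV_mul]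
  linear_combination h1 + h2 + h3

theorem compat_inv {σ : ↥Spor.M23} {f : CVec → ZMod 2} (hf : Compat σ f) :
    Compat σ⁻¹ (fun x => f (sV σ⁻¹ x)) := by
  intro x y
  have h := hf (sV σ⁻¹ x) (sV σ⁻¹ y)
  simp only [map_add, sV_inv] at h ⊢
  linear_combination h

theorem compat_add_iff {σ : ↥Spor.M23} {f g : CVec → ZMod 2} (hf : Compat σ f) (hg : Compat σ g)
    (x y : CVec) : f (x + y) + g (x + y) = (f x + g x) + (f y + g y) := by
  have h : ∀ a : ZMod 2, a + a = 0 := CharTwo.add_self_eq_zero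
  linear_combination hf x y + hg x y - h (f x) - h (g x) - h (f y) - h (g y) +
    h (theta (sV σ x) (sV σ y)) + h (theta x y)

/-- The extension. -/
def extGrp : Subgroup (↥Spor.M23 × Equiv.Perm (CVec × ZMod 2)) where
  carrier := {g | ∃ f, (∀ x e, g.2 (x, e) = (sV g.1 x, e + f x)) ∧ Compat g.1 f}
  one_mem' := ⟨0, fun x e => by simp [sV_one], compat_one⟩
  mul_mem' := by
    rintro ⟨σ, π⟩ ⟨τ, ρ⟩ ⟨f, hf, hc⟩ ⟨g, hg, hd⟩
    refine ⟨fun x => f (sV τ x) + g x, fun x e => ?_, compat_mul hc hd⟩
    show π (ρ (x, e)) = (sV (σ * τ) x, e + (f (sV τ x) + g x))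
    rw [hg, hf, sV_mul]
    congr 1
    show e + g x + f (sV τ x) = _
    abel
  inv_mem' := by
    rintro ⟨σ, π⟩ ⟨f, hf, hc⟩
    refine ⟨fun x => f (sV σ⁻¹ x), fun x e => ?_, compat_inv hc⟩
    show π⁻¹ (x, e) = (sV σ⁻¹ x, e + f (sV σ⁻¹ x))
    rw [Equiv.Perm.inv_def, Equiv.symm_apply_eq, hf, sV_inv]
    congr 1
    rw [add_assoc, CharTwo.add_self_eq_zero, add_zero]

/-- The shift by a function. -/
def shiftPerm (f : CVec → ZMod 2) : Equiv.Perm (CVec × ZMod 2) where
  toFun v := (v.1, v.2 + f v.1)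
  invFun v := (v.1, v.2 + f v.1)
  left_inv v := by simp [add_assoc, CharTwo.add_self_eq_zero]
  right_inv v := by simp [add_assoc, CharTwo.add_self_eq_zero]

/-- The permutation of the points given by a permutation and a function. -/
def liftPerm (σ : ↥Spor.M23) (f : CVec → ZMod 2) : Equiv.Perm (CVec × ZMod 2) where
  toFun v := (sV σ v.1, v.2 + f v.1)
  invFun v := (sV σ⁻¹ v.1, v.2 + f (sV σ⁻¹ v.1))
  left_inv v := by
    have h : sV σ⁻¹ (sV σ v.1) = v.1 := by rw [← sV_mul, inv_mul_cancel, sV_one]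
    simp [h, add_assoc, CharTwo.add_self_eq_zero]
  right_inv v := by simp [sV_inv, add_assoc, CharTwo.add_self_eq_zero]

theorem liftPerm_mem {σ : ↥Spor.M23} {f : CVec → ZMod 2} (h : Compat σ f) :
    (σ, liftPerm σ f) ∈ extGrp :=
  ⟨f, fun _ _ => rfl, h⟩

/-- The two generators as permutations. -/
def genPerm : Bool → Equiv.Perm GolayPt
  | false => Equiv.optionCongr (Equiv.addRight (1 : ZMod 23))
  | true => Cfsg.cubeTwist

theorem genPerm_mem (b : Bool) : genPerm b ∈ Spor.M23 := by
  refine ⟨?_, ?_⟩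
  · rw [← Golay.M24_eq_closure]
    cases b
    · exact Subgroup.subset_closure (Or.inl rfl)
    · exact Subgroup.subset_closure (Or.inr (Or.inr rfl))
  · cases b <;> rfl

/-- The two generators. -/
def genM (b : Bool) : ↥Spor.M23 := ⟨genPerm b, genPerm_mem b⟩

/-- The images of the basis under a generator. -/
def genImg (b : Bool) (i : Fin 11) : CVec :=
  toCVec ((Data.imageMasks.getD (if b then 1 else 0) []).getD i.val 0)

/-- The linear map of a generator, computably. -/
def genLin (b : Bool) (x : CVec) : CVec := fun j => ∑ i, x i * genImg b i j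

theorem genImg_check : ∀ b : Bool, ∀ i : Fin 11, ∀ p : GolayPt,
    ∑ j, genImg b i j * cB j (genPerm b p) = cB i p := by decide +kernel

theorem sV_gen (b : Bool) (x : CVec) : sV (genM b) x = genLin b x := by
  refine cW_injective (funext fun p => ?_)
  rw [cW_sV]
  show ∑ i, x i * cB i ((genPerm b)⁻¹ p) = ∑ j, (∑ i, x i * genImg b i j) * cB j p
  simp only [Finset.sum_mul, mul_assoc]
  rw [Finset.sum_comm]
  refine Finset.sum_congr rfl fun i _ => ?_
  rw [← Finset.mul_sum]
  congr 1
  conv_rhs => rw [show p = genPerm b ((genPerm b)⁻¹ p) from (Equiv.apply_symm_apply _ _).symm]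
  exact (genImg_check b i _).symm

/-- The quadratic forms. -/
def genQ (b : Bool) (i j : Fin 11) : ZMod 2 :=
  bit2 ((Data.quadMasks.getD (if b then 1 else 0) []).getD i.val 0) j.val

/-- The value of a quadratic form. -/
def genF (b : Bool) (x : CVec) : ZMod 2 := ∑ i, x i * ∑ j, genQ b i j * x j

theorem genF_polar (b : Bool) (x y : CVec) :
    genF b (x + y) + genF b x + genF b y =
      ∑ i, ∑ j, x i * y j * (genQ b i j + genQ b j i) := by
  have h : ∀ a : ZMod 2, a + a = 0 := CharTwo.add_self_eq_zero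
  have e : ∀ u v : CVec, ∑ i, u i * ∑ j, genQ b i j * v j = ∑ i, ∑ j, u i * v j * genQ b i j := by
    intro u v
    refine Finset.sum_congr rfl fun i _ => ?_
    rw [Finset.mul_sum]
    exact Finset.sum_congr rfl fun j _ => by ring
  have ea : genF b (x + y) = genF b x + genF b y +
      ((∑ i, ∑ j, x i * y j * genQ b i j) + ∑ i, ∑ j, y i * x j * genQ b i j) := by
    simp only [genF, e, Pi.add_apply, add_mul, mul_add, Finset.sum_add_distrib]
    abel
  rw [ea, Finset.sum_comm (f := fun i j => y i * x j * genQ b i j)]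
  simp only [mul_add, Finset.sum_add_distrib]
  simp only [mul_comm (y _) (x _)]
  linear_combination h (genF b x) + h (genF b y)

theorem genF_check : ∀ b : Bool, ∀ i j : Fin 11,
    genQ b i j + genQ b j i =
      theta (genImg b i) (genImg b j) + theta (Pi.single i 1) (Pi.single j 1) := by
  decide +kernel

theorem genLin_single (b : Bool) (i : Fin 11) : genLin b (Pi.single i 1) = genImg b i :=
  funext fun j => by simp [genLin, Pi.single_apply]

theorem compat_gen (b : Bool) : Compat (genM b) (genF b) := by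
  intro x y
  have h : ∀ a : ZMod 2, a + a = 0 := CharTwo.add_self_eq_zero
  refine ext_additive (f := fun y => genF b (x + y) + genF b x + genF b y)
    (g := fun y => theta (sV (genM b) x) (sV (genM b) y) + theta x y) ?_ ?_ (fun j => ?_) y
  · intro u v
    simp only [genF_polar, Pi.add_apply, mul_add, add_mul, Finset.sum_add_distrib]
    abel
  · intro u v
    simp only [map_add, theta_add_right]
    abel
  refine ext_additive (f := fun x => genF b (x + _) + genF b x + genF b _)
    (g := fun x => theta (sV (genM b) x) (sV (genM b) _) + theta x _) ?_ ?_ (fun i => ?_) x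
  · intro u v
    simp only [genF_polar, Pi.add_apply, mul_add, add_mul, Finset.sum_add_distrib]
    abel
  · intro u v
    simp only [map_add, theta_add_left, thPolar_eq_tri, tri_sV]
    linear_combination h (tri u v (Pi.single j 1))
  simp only [genF_polar, sV_gen, genLin_single, ← genF_check]
  simp [Pi.single_apply]

theorem genExt_mem (b : Bool) : (genM b, liftPerm (genM b) (genF b)) ∈ extGrp :=
  liftPerm_mem (compat_gen b)

/-- The value of a word, the first letter acting first. -/
def wordVal {G : Type*} [Group G] (g : Bool → G) : List Bool → G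
  | [] => 1
  | b :: w => wordVal g w * g b

theorem wordVal_map {G H : Type*} [Group G] [Group H] (ψ : G →* H) (g : Bool → G) :
    ∀ w, ψ (wordVal g w) = wordVal (fun b => ψ (g b)) w
  | [] => map_one ψ
  | b :: w => by rw [wordVal, wordVal, map_mul, wordVal_map ψ g w]

theorem wordVal_mem {G : Type*} [Group G] (K : Subgroup G) (g : Bool → G) (h : ∀ b, g b ∈ K) :
    ∀ w, wordVal g w ∈ K
  | [] => one_mem _
  | b :: w => mul_mem (wordVal_mem K g h w) (h b)

/-- The images of the words. -/
def wordPerm (w : List Bool) : Equiv.Perm GolayPt := wordVal genPerm w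

theorem coe_wordVal (w : List Bool) : ((wordVal genM w : ↥Spor.M23) : Equiv.Perm GolayPt) = wordPerm w :=
  wordVal_map Spor.M23.subtype genM w

theorem wordVal_pow_eq {w : List Bool} {n : ℕ} (h : ∀ p, (wordPerm w ^ n) p = p) :
    wordVal genM w ^ n = 1 :=
  Subtype.ext (by rw [Subgroup.coe_pow, coe_wordVal, Subgroup.coe_one]; exact Equiv.ext h)

theorem wordVal_pow_ne {w : List Bool} {n : ℕ} (h : ∃ p, (wordPerm w ^ n) p ≠ p) :
    wordVal genM w ^ n ≠ 1 := fun e => by
  obtain ⟨p, hp⟩ := h
  refine hp ?_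
  have := congrArg (fun g : ↥Spor.M23 => (g : Equiv.Perm GolayPt) p) e
  simpa [coe_wordVal] using this

theorem word_orders :
    ((∀ p, (wordPerm (Data.orderWords.getD 0 []) ^ 23) p = p) ∧ ∃ p, (wordPerm (Data.orderWords.getD 0 []) ^ 1) p ≠ p) ∧
    ((∀ p, (wordPerm (Data.orderWords.getD 1 []) ^ 11) p = p) ∧ ∃ p, (wordPerm (Data.orderWords.getD 1 []) ^ 1) p ≠ p) ∧
    ((∀ p, (wordPerm (Data.orderWords.getD 2 []) ^ 7) p = p) ∧ ∃ p, (wordPerm (Data.orderWords.getD 2 []) ^ 1) p ≠ p) ∧
    ((∀ p, (wordPerm (Data.orderWords.getD 3 []) ^ 5) p = p) ∧ ∃ p, (wordPerm (Data.orderWords.getD 3 []) ^ 1) p ≠ p) ∧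
    ((∀ p, (wordPerm (Data.orderWords.getD 4 []) ^ 8) p = p) ∧ ∃ p, (wordPerm (Data.orderWords.getD 4 []) ^ 4) p ≠ p) := by
  decide +kernel

theorem three_check :
    (∀ p, (wordPerm Data.threeWords.1 ^ 3) p = p) ∧ (∀ p, (wordPerm Data.threeWords.2 ^ 3) p = p) ∧
      (∀ p, (wordPerm Data.threeWords.1 * wordPerm Data.threeWords.2) p =
        (wordPerm Data.threeWords.2 * wordPerm Data.threeWords.1) p) ∧
      ∀ a b : Fin 3, (∀ p, (wordPerm Data.threeWords.1 ^ a.val * wordPerm Data.threeWords.2 ^ b.val) p = p) →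
        a = 0 ∧ b = 0 := by
  decide +kernel

/-- The generators generate `M₂₃`. -/
theorem gens_top {K : Subgroup ↥Spor.M23} (h : ∀ b, genM b ∈ K) : K = ⊤ := by
  by_contra hK
  have hdvd : ∀ w, orderOf (wordVal genM w) ∣ Nat.card K := fun w =>
    Subgroup.orderOf_dvd_natCard K (wordVal_mem K genM h w)
  have hprime : ∀ {w : List Bool} {n : ℕ}, n.Prime → (∀ p, (wordPerm w ^ n) p = p) →
      (∃ p, (wordPerm w ^ 1) p ≠ p) → n ∣ Nat.card K := by
    intro w n hn h1 h2
    haveI := Fact.mk hn
    have h3 : wordVal genM w ≠ 1 := fun e => wordVal_pow_ne h2 (by rw [e, one_pow])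
    exact (orderOf_eq_prime (wordVal_pow_eq h1) h3) ▸ hdvd w
  obtain ⟨⟨a1, a2⟩, ⟨b1, b2⟩, ⟨c1, c2⟩, ⟨d1, d2⟩, ⟨e1, e2⟩⟩ := word_orders
  have h23 := hprime (by norm_num) a1 a2
  have h11 := hprime (by norm_num) b1 b2
  have h7 := hprime (by norm_num) c1 c2
  have h5 := hprime (by norm_num) d1 d2
  have h8 : 8 ∣ Nat.card K := by
    haveI := Fact.mk Nat.prime_two
    have h := orderOf_eq_prime_pow (x := wordVal genM (Data.orderWords.getD 4 [])) (p := 2) (n := 2)
      (wordVal_pow_ne e2) (wordVal_pow_eq e1)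
    exact (show 8 = orderOf (wordVal genM (Data.orderWords.getD 4 [])) from h.symm) ▸ hdvd _
  have h9 : 9 ∣ Nat.card K := by
    obtain ⟨t1, t2, t3, t4⟩ := three_check
    set u := wordVal genM Data.threeWords.1 with hu
    set v := wordVal genM Data.threeWords.2 with hv
    have hu3 : u ^ 3 = 1 := wordVal_pow_eq t1
    have hv3 : v ^ 3 = 1 := wordVal_pow_eq t2
    have hc : Commute u v := Subtype.ext (Equiv.ext fun p => by
      rw [Subgroup.coe_mul, Subgroup.coe_mul, coe_wordVal, coe_wordVal]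
      exact t3 p)
    have hind : ∀ a b : Fin 3, u ^ a.val * v ^ b.val = 1 → a = 0 ∧ b = 0 := by
      intro a b e
      refine t4 a b fun p => ?_
      have := congrArg (fun g : ↥Spor.M23 => (g : Equiv.Perm GolayPt) p) e
      simpa [coe_wordVal, hu, hv] using this
    have hu1 : u ≠ 1 := fun e => by
      have := (hind 1 0 (by simp [e])).1
      exact absurd this (by decide)
    have hv1 : v ≠ 1 := fun e => by
      have := (hind 0 1 (by simp [e])).2
      exact absurd this (by decide)
    haveI := Fact.mk Nat.prime_three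
    let ψ := MonoidHom.noncommCoprod (Subgroup.zpowers u).subtype (Subgroup.zpowers v).subtype (by
      rintro ⟨x, ⟨i, rfl⟩⟩ ⟨y, ⟨j, rfl⟩⟩
      exact hc.zpow_zpow i j)
    have hψ : Function.Injective ψ := by
      refine (injective_iff_map_eq_one ψ).2 ?_
      rintro ⟨⟨x, hx⟩, ⟨y, hy⟩⟩ e
      have hox : orderOf u = 3 := orderOf_eq_prime hu3 hu1
      have hoy : orderOf v = 3 := orderOf_eq_prime hv3 hv1
      obtain ⟨i, hi, rfl⟩ : ∃ i < 3, u ^ i = x := by
        rw [IsOfFinOrder.mem_zpowers_iff_mem_range_orderOf (isOfFinOrder_of_finite u), hox,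
          Finset.mem_image] at hx
        obtain ⟨i, hi, e⟩ := hx
        exact ⟨i, Finset.mem_range.1 hi, e⟩
      obtain ⟨j, hj, rfl⟩ : ∃ j < 3, v ^ j = y := by
        rw [IsOfFinOrder.mem_zpowers_iff_mem_range_orderOf (isOfFinOrder_of_finite v), hoy,
          Finset.mem_image] at hy
        obtain ⟨i, hi, e⟩ := hy
        exact ⟨i, Finset.mem_range.1 hi, e⟩
      have e' : u ^ i * v ^ j = 1 := e
      obtain ⟨ha, hb⟩ := hind ⟨i, hi⟩ ⟨j, hj⟩ e'
      have hi0 : i = 0 := congrArg Fin.val ha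
      have hj0 : j = 0 := congrArg Fin.val hb
      subst hi0 hj0
      ext <;> simp
    have hrange : ψ.range ≤ K := by
      rintro _ ⟨⟨⟨x, hx⟩, ⟨y, hy⟩⟩, rfl⟩
      exact mul_mem (Subgroup.zpowers_le.2 (wordVal_mem K genM h _) hx)
        (Subgroup.zpowers_le.2 (wordVal_mem K genM h _) hy)
    have := Subgroup.card_dvd_of_le hrange
    rw [← Nat.card_congr (MonoidHom.ofInjective hψ).toEquiv, Nat.card_prod, Nat.card_zpowers,
      Nat.card_zpowers, orderOf_eq_prime hu3 hu1, orderOf_eq_prime hv3 hv1] at this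
    exact this
  have hbig : 637560 ∣ Nat.card K := by
    have e : 637560 = 23 * 11 * 7 * 5 * 8 * 9 := by norm_num
    rw [e]
    refine Nat.Coprime.mul_dvd_of_dvd_of_dvd (by norm_num) ?_ h9
    refine Nat.Coprime.mul_dvd_of_dvd_of_dvd (by norm_num) ?_ h8
    refine Nat.Coprime.mul_dvd_of_dvd_of_dvd (by norm_num) ?_ h5
    refine Nat.Coprime.mul_dvd_of_dvd_of_dvd (by norm_num) ?_ h7
    exact Nat.Coprime.mul_dvd_of_dvd_of_dvd (by norm_num) h23 h11
  have hcard := K.card_mul_index
  rw [Golay.card_sporM23] at hcard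
  have hidx : K.index ≤ 16 := by
    obtain ⟨c, hc⟩ := hbig
    rw [hc] at hcard
    rcases Nat.eq_zero_or_pos c with rfl | hpos
    · simp at hcard
    · nlinarith
  haveI := Golay.sporM23_simple
  have hker : (MulAction.toPermHom ↥Spor.M23 (↥Spor.M23 ⧸ K)).ker = ⊥ := by
    refine (Subgroup.Normal.eq_bot_or_eq_top (MonoidHom.normal_ker _)).resolve_right fun e => hK ?_
    rw [← Subgroup.normalCore_eq_ker] at e
    exact eq_top_iff.2 (e ▸ K.normalCore_le)
  have hdiv : Nat.card ↥Spor.M23 ∣ Nat.factorial K.index := by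
    have := Subgroup.card_dvd_of_injective _ ((MonoidHom.ker_eq_bot_iff _).1 hker)
    rwa [Nat.card_perm] at this
  rw [Golay.card_sporM23] at hdiv
  have h16 := hdiv.trans (Nat.factorial_dvd_factorial hidx)
  exact absurd h16 (by decide)

end

end CfsgLib.M23Cocode
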