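import Cfsg.Agent.Lib.M23Cocode.Ext

/-!
The extension of `M₂₃` by its cocode module: the kernel as the image of the words, and the
certificate that no complement exists.
-/

set_option autoImplicit false
set_option maxRecDepth 100000

set_option maxHeartbeats 600000

namespace CfsgLib.M23Cocode

open Cfsg

noncomputable section

attribute [local irreducible] sV theta genF genLin cW

/-- The extension as a type. -/
abbrev ExtCarrier : Type := ↥extGrp

/-- The projection of the extension onto `M₂₃`. -/
def extProj : ExtCarrier →* ↥Spor.M23 :=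
  (MonoidHom.fst ↥Spor.M23 (Equiv.Perm (CVec × ZMod 2))).comp extGrp.subtype

/-- The two generators in the extension. -/
def genE (b : Bool) : ExtCarrier := ⟨(genM b, liftPerm (genM b) (genF b)), genExt_mem b⟩

theorem extProj_surjective : Function.Surjective extProj :=
  MonoidHom.range_eq_top.1 (gens_top fun b => ⟨genE b, rfl⟩)

/-- The pairing of a word with the code words vanishing at the extra point. -/
def pairing (w : GolayPt → ZMod 2) (x : CVec) : ZMod 2 := ∑ p, w p * cW x p

attribute [local irreducible] pairing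

theorem pairing_add_right (w : GolayPt → ZMod 2) (x y : CVec) :
    pairing w (x + y) = pairing w x + pairing w y := by
  simp only [pairing, map_add, Pi.add_apply, mul_add, Finset.sum_add_distrib]

theorem pairing_add_left (v w : GolayPt → ZMod 2) (x : CVec) :
    pairing (v + w) x = pairing v x + pairing w x := by
  simp only [pairing, Pi.add_apply, add_mul, Finset.sum_add_distrib]

theorem shift_mem (w : GolayPt → ZMod 2) :
    ((1 : ↥Spor.M23), shiftPerm (pairing w)) ∈ extGrp := by
  refine ⟨pairing w, fun x e => ?_, fun x y => ?_⟩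
  · show (x, e + pairing w x) = (sV 1 x, e + pairing w x)
    rw [sV_one]
  · rw [pairing_add_right, sV_one, sV_one, CharTwo.add_self_eq_zero]
    linear_combination CharTwo.add_self_eq_zero (pairing w x) +
      CharTwo.add_self_eq_zero (pairing w y)

theorem shiftPerm_apply (f : CVec → ZMod 2) (x : CVec) (e : ZMod 2) :
    shiftPerm f (x, e) = (x, e + f x) := rfl

theorem shiftPerm_add (f g k : CVec → ZMod 2) (h : ∀ x, k x = f x + g x) :
    shiftPerm k = shiftPerm f * shiftPerm g :=
  Equiv.ext fun ⟨x, e⟩ => by
    rw [Equiv.Perm.mul_apply, shiftPerm_apply, shiftPerm_apply, shiftPerm_apply, h, add_assoc,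
      add_comm (g x)]

theorem shiftPerm_eq_one {f : CVec → ZMod 2} : shiftPerm f = 1 ↔ ∀ x, f x = 0 := by
  constructor
  · intro h x
    have h3 := Equiv.ext_iff.1 h (x, 0)
    rw [shiftPerm_apply, Equiv.Perm.one_apply, Prod.mk.injEq, zero_add] at h3
    exact h3.2
  · intro h
    refine Equiv.ext fun z => ?_
    obtain ⟨x, e⟩ := z
    rw [shiftPerm_apply, h, add_zero, Equiv.Perm.one_apply]

theorem ext_mul_apply (a b : ExtCarrier) (z : CVec × ZMod 2) :
    (a * b).1.2 z = a.1.2 (b.1.2 z) := rfl

theorem ext_one_apply (z : CVec × ZMod 2) : (1 : ExtCarrier).1.2 z = z := rfl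

/-- The shift given by a word, in the extension. -/
def shiftE (w : GolayPt → ZMod 2) : ExtCarrier := ⟨(1, shiftPerm (pairing w)), shift_mem w⟩

theorem shiftE_add (v w : GolayPt → ZMod 2) : shiftE (v + w) = shiftE v * shiftE w :=
  Subtype.ext (Prod.ext (one_mul _).symm
    (shiftPerm_add (pairing v) (pairing w) _ (pairing_add_left v w)))

theorem shiftE_eq_one {w : GolayPt → ZMod 2} : shiftE w = 1 ↔ ∀ x, pairing w x = 0 := by
  rw [← shiftPerm_eq_one]
  exact ⟨fun h => congrArg (fun g : ExtCarrier => g.1.2) h,
    fun h => Subtype.ext (Prod.ext rfl h)⟩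

theorem shiftE_apply (w : GolayPt → ZMod 2) (x : CVec) (e : ZMod 2) :
    (shiftE w).1.2 (x, e) = (x, e + pairing w x) := rfl

/-- The homomorphism from words onto the kernel. -/
def wordHom : (GolayPt → ZMod 2) →+ Additive ↥extProj.ker :=
  AddMonoidHom.mk' (fun w => Additive.ofMul (⟨shiftE w, rfl⟩ : ↥extProj.ker))
    (fun v w => congrArg Additive.ofMul (Subtype.ext (shiftE_add v w)))

theorem coe_wordHom (w : GolayPt → ZMod 2) :
    ((wordHom w).toMul : ExtCarrier) = shiftE w := rfl

theorem pairing_basis_word (a : CVec) (x : CVec) :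
    pairing (fun p => ∑ i, if p = cPiv i then a i else 0) x = ∑ i, a i * x i := by
  simp only [pairing, Finset.sum_mul, ite_mul, zero_mul]
  rw [Finset.sum_comm]
  refine Finset.sum_congr rfl fun i _ => ?_
  rw [Finset.sum_ite_eq' Finset.univ (cPiv i), if_pos (Finset.mem_univ _)]
  exact congrArg (a i * ·) (congrFun (cX_cW x) i)

theorem additive_eq_sum {f : CVec → ZMod 2} (hf : ∀ a b, f (a + b) = f a + f b) (x : CVec) :
    f x = ∑ i, f (Pi.single i 1) * x i := by
  refine ext_additive hf (g := fun x => ∑ i, f (Pi.single i 1) * x i) (fun a b => ?_) (fun j => ?_) x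
  · simp only [Pi.add_apply, mul_add, Finset.sum_add_distrib]
  · simp [Pi.single_apply]

theorem wordHom_surjective : Function.Surjective wordHom := by
  intro n
  obtain ⟨⟨⟨⟨σ, π⟩, hmem⟩, hker⟩, rfl⟩ := Additive.ofMul.surjective n
  obtain rfl : σ = 1 := hker
  obtain ⟨f, hf, hc⟩ := id hmem
  have hadd : ∀ a b, f (a + b) = f a + f b := fun a b => by
    have h := hc a b
    simp only [sV_one] at h
    rw [CharTwo.add_self_eq_zero] at h
    linear_combination h - CharTwo.add_self_eq_zero (f a) - CharTwo.add_self_eq_zero (f b)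
  refine ⟨fun p => ∑ i, if p = cPiv i then f (Pi.single i 1) else 0,
    congrArg Additive.ofMul (Subtype.ext (Subtype.ext (Prod.ext rfl (Equiv.ext fun z => ?_))))⟩
  obtain ⟨x, e⟩ := z
  refine (shiftPerm_apply _ x e).trans ?_
  have h1 := hf x e
  simp only [sV_one] at h1
  rw [h1, pairing_basis_word, ← additive_eq_sum hadd]

theorem wordHom_eq_zero_iff (w : GolayPt → ZMod 2) :
    wordHom w = 0 ↔ ∀ x, pairing w x = 0 := by
  constructor
  · intro h
    exact shiftE_eq_one.1
      (congrArg (fun n : Additive ↥extProj.ker => ((n.toMul : ↥extProj.ker) : ExtCarrier)) h)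
  · intro h
    exact congrArg Additive.ofMul (Subtype.ext (shiftE_eq_one.2 h))

theorem pairing_gens :
    (∀ t : ZMod 23, ∀ i : Fin 11, ∑ p, qrWord t p * cB i p = 0) ∧
      ∀ i : Fin 11, ∑ p, (1 : GolayPt → ZMod 2) p * cB i p = 0 := by
  decide +kernel

theorem pairing_code {w : GolayPt → ZMod 2} (hw : w ∈ golayCode) (x : CVec) : pairing w x = 0 := by
  revert x
  induction hw using Submodule.span_induction with
  | mem v hv =>
    refine ext_additive (pairing_add_right v) (g := fun _ => 0) (fun _ _ => (add_zero 0).symm)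
      fun i => ?_
    simp only [pairing, cW_single]
    rcases hv with ⟨t, rfl⟩ | rfl
    · exact pairing_gens.1 t i
    · exact pairing_gens.2 i
  | zero => intro x; simp [pairing]
  | add u v _ _ hu hv => intro x; rw [pairing_add_left, hu, hv, add_zero]
  | smul c v _ hv =>
    intro x
    have h : pairing (c • v) x = c * pairing v x := by
      simp only [pairing, Pi.smul_apply, smul_eq_mul, Finset.mul_sum, mul_assoc]
    rw [h, hv, mul_zero]

theorem pairing_single_none (x : CVec) : pairing (Pi.single none 1) x = 0 := by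
  simp [pairing, Pi.single_apply, cW_none]

theorem card_inter_toSet (u : GolayPt → ZMod 2) (b : ℕ) :
    (((support₂ u) ∩ Golay.toSet b).card : ZMod 2) = ∑ p, u p * Golay.toWord b p := by
  have e : support₂ u ∩ Golay.toSet b =
      Finset.univ.filter fun p => u p * Golay.toWord b p ≠ 0 := by
    ext p
    simp [support₂, Golay.mem_toSet, Golay.toWord, and_comm]
  rw [e, ← Finset.sum_boole]
  refine Finset.sum_congr rfl fun p _ => ?_
  generalize u p * Golay.toWord b p = a
  revert a
  decide

theorem mem_code_of_pairing {w : GolayPt → ZMod 2} (h : ∀ x, pairing w x = 0) :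
    w + (∑ p, w p) • (Pi.single none 1 : GolayPt → ZMod 2) ∈ golayCode := by
  set u := w + (∑ p, w p) • (Pi.single none 1 : GolayPt → ZMod 2) with hu
  have h1 : ∑ p, u p = 0 := by
    simp [hu, Finset.sum_add_distrib, Pi.single_apply, CharTwo.add_self_eq_zero]
  have h2 : ∀ x, ∑ p, u p * cW x p = 0 := fun x => by
    have hp : pairing u x = ∑ p, u p * cW x p := by rw [pairing]
    rw [← hp]
    have e : pairing ((∑ p, w p) • (Pi.single none 1 : GolayPt → ZMod 2)) x = 0 := by
      simp [pairing, Pi.single_apply, cW_none]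
    rw [hu, pairing_add_left, h, e, add_zero]
  have h3 : ∀ v ∈ golayCode, ∑ p, u p * v p = 0 := by
    intro v hv
    have e : ∀ p, v p = cW (cX v) p + v none * (1 + cW (cX 1) p) := fun p =>
      (congrFun (retr_code hv) p).symm
    calc ∑ p, u p * v p
        = ∑ p, (u p * cW (cX v) p + v none * (u p + u p * cW (cX 1) p)) :=
          Finset.sum_congr rfl fun p _ => by rw [e p]; ring
      _ = 0 := by
          rw [Finset.sum_add_distrib, h2, ← Finset.mul_sum, Finset.sum_add_distrib, h1, h2]
          ring
  obtain ⟨v, hv, hve⟩ := Golay.supports_of_orth (s := support₂ u) fun b hb => by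
    rw [card_inter_toSet]
    refine h3 _ ?_
    rw [Golay.golayCode_eq]
    exact ⟨b, Golay.mem_spanList_self hb, rfl⟩
  exact eq_of_support hve ▸ hv

theorem wordHom_ker (w : GolayPt → ZMod 2) :
    wordHom w = 0 ↔ (w ∈ golayCode ∨ w + Pi.single none 1 ∈ golayCode) := by
  rw [wordHom_eq_zero_iff]
  constructor
  · intro h
    have h1 := mem_code_of_pairing h
    obtain hc | hc : (∑ p, w p) = 0 ∨ (∑ p, w p) = 1 := by
      generalize ∑ p, w p = a; revert a; decide
    · rw [hc, zero_smul, add_zero] at h1
      exact Or.inl h1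
    · rw [hc, one_smul] at h1
      exact Or.inr h1
  · rintro (h | h) x
    · exact pairing_code h x
    · have h1 := pairing_code h x
      rwa [pairing_add_left, pairing_single_none, add_zero] at h1

theorem pairing_comp (σ : ↥Spor.M23) (w : GolayPt → ZMod 2) (x : CVec) :
    pairing (w ∘ ⇑(σ : Equiv.Perm GolayPt)⁻¹) (sV σ x) = pairing w x := by
  simp only [pairing, Function.comp_apply, cW_sV]
  exact Equiv.sum_comp (σ : Equiv.Perm GolayPt)⁻¹ fun p => w p * cW x p

theorem shiftE_conj (g : ExtCarrier) (w : GolayPt → ZMod 2) :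
    shiftE (w ∘ ⇑(g.1.1 : Equiv.Perm GolayPt)⁻¹) * g = g * shiftE w := by
  obtain ⟨f, hf, -⟩ := id g.2
  refine Subtype.ext (Prod.ext ((one_mul _).trans (mul_one _).symm) (Equiv.ext fun z => ?_))
  obtain ⟨x, e⟩ := z
  rw [ext_mul_apply, ext_mul_apply, shiftE_apply, hf, hf, shiftE_apply, pairing_comp]
  rw [add_right_comm]

theorem wordHom_equivariant (g : ExtCarrier) (w : GolayPt → ZMod 2) :
    ((wordHom (w ∘ ⇑((extProj g : Equiv.Perm GolayPt))⁻¹)).toMul : ExtCarrier) =
      g * ((wordHom w).toMul : ExtCarrier) * g⁻¹ := by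
  rw [coe_wordHom, coe_wordHom, eq_mul_inv_iff_mul_eq]
  exact shiftE_conj g w

/-- The dot product of coordinate vectors. -/
def cDot (x c : CVec) : ZMod 2 := ∑ i, c i * x i

theorem cDot_add (x y c : CVec) : cDot (x + y) c = cDot x c + cDot y c := by
  simp only [cDot, Pi.add_apply, mul_add, Finset.sum_add_distrib]

theorem cDot_zero (c : CVec) : cDot 0 c = 0 := by simp [cDot]

/-- The steps of a trace follow the generators. -/
def trOk : CVec → List (Bool × ℕ) → Bool
  | _, [] => true
  | S, (b, m) :: s => decide (genLin b S = toCVec m) && trOk (toCVec m) s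

/-- The constant part of the shift along a trace. -/
def trConst : CVec → List (Bool × ℕ) → ZMod 2
  | _, [] => 0
  | S, (b, m) :: s => genF b S + trConst (toCVec m) s

/-- The coefficient vector of a generator along a trace. -/
def trCoef (c : Bool) : CVec → List (Bool × ℕ) → CVec
  | _, [] => 0
  | S, (b, m) :: s => (if b = c then S else 0) + trCoef c (toCVec m) s

/-- The last point of a trace. -/
def trEnd : CVec → List (Bool × ℕ) → CVec
  | S, [] => S
  | _, (_, m) :: s => trEnd (toCVec m) s

theorem trace_apply {h : Bool → ExtCarrier} {c : Bool → CVec}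
    (hh : ∀ b x e, (h b).1.2 (x, e) = (sV (genM b) x, e + genF b x + cDot x (c b))) :
    ∀ (s : List (Bool × ℕ)) (S : CVec) (e : ZMod 2), trOk S s = true →
      (wordVal h (s.map Prod.fst)).1.2 (S, e) =
        (trEnd S s, e + trConst S s + cDot (trCoef false S s) (c false) +
          cDot (trCoef true S s) (c true))
  | [], S, e, _ => by
    rw [List.map_nil, wordVal, ext_one_apply, trEnd, trConst, trCoef, trCoef, cDot_zero, cDot_zero,
      add_zero, add_zero, add_zero]
  | (b, m) :: s, S, e, hok => by
    simp only [trOk, Bool.and_eq_true, decide_eq_true_eq] at hok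
    rw [List.map_cons, wordVal, ext_mul_apply]
    rw [hh, sV_gen, hok.1, trace_apply hh s _ _ hok.2]
    simp only [trEnd, trConst, trCoef, cDot_add]
    cases b <;> simp [cDot_zero] <;> abel

/-- The starting point of a trace. -/
def trStart (t : Fin 11 × List (Bool × ℕ)) : CVec := toCVec (2 ^ t.1.val)

theorem traces_ok : ∀ t ∈ Data.traces,
    trOk (trStart t) t.2 = true ∧ ∀ p, wordPerm (t.2.map Prod.fst) p = p := by
  decide +kernel

theorem traces_sum :
    (Data.traces.map fun t => trConst (trStart t) t.2).sum = 1 ∧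
      (Data.traces.map fun t => trCoef false (trStart t) t.2).sum = 0 ∧
      (Data.traces.map fun t => trCoef true (trStart t) t.2).sum = 0 := by
  decide +kernel

theorem no_complement {H : Subgroup ExtCarrier} (hH : H ⊓ extProj.ker = ⊥) :
    H ⊔ extProj.ker ≠ ⊤ := by
  intro htop
  have hex : ∀ b, ∃ h ∈ H, extProj h = genM b := fun b => by
    obtain ⟨h, hh, n, hn, e⟩ :=
      Subgroup.mem_sup_of_normal_right.1 (htop ▸ Subgroup.mem_top (genE b))
    refine ⟨h, hh, ?_⟩
    have := congrArg extProj e
    rw [map_mul, MonoidHom.mem_ker.1 hn, mul_one] at this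
    exact this
  choose h hH' hp using hex
  have hsh : ∀ b, ∃ c : CVec, ∀ x e,
      (h b).1.2 (x, e) = (sV (genM b) x, e + genF b x + cDot x c) := fun b => by
    obtain ⟨f, hf, hc⟩ := (h b).2
    rw [show (h b).1.1 = genM b from hp b] at hf hc
    refine ⟨fun i => f (Pi.single i 1) + genF b (Pi.single i 1), fun x e => ?_⟩
    have hl := additive_eq_sum (f := fun y => f y + genF b y)
      (fun u v => compat_add_iff hc (compat_gen b) u v) x
    rw [hf, cDot, ← hl]
    congr 1
    linear_combination (-1 : ZMod 2) * CharTwo.add_self_eq_zero (genF b x)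
  choose c hc using hsh
  have key : ∀ t ∈ Data.traces, trConst (trStart t) t.2 +
      cDot (trCoef false (trStart t) t.2) (c false) +
      cDot (trCoef true (trStart t) t.2) (c true) = 0 := by
    intro t ht
    obtain ⟨hok, hone⟩ := traces_ok t ht
    have hm : wordVal h (t.2.map Prod.fst) ∈ H ⊓ extProj.ker := by
      refine ⟨wordVal_mem H h hH' _, ?_⟩
      show extProj (wordVal h _) = 1
      rw [wordVal_map extProj h, funext hp]
      exact Subtype.ext (by rw [coe_wordVal]; exact Equiv.ext hone)
    rw [hH, Subgroup.mem_bot] at hm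
    have h1 := trace_apply hc t.2 (trStart t) 0 hok
    rw [hm, ext_one_apply, zero_add, Prod.mk.injEq] at h1
    exact h1.2.symm
  have hlist : ∀ L : List (Fin 11 × List (Bool × ℕ)), (∀ t ∈ L, trConst (trStart t) t.2 +
      cDot (trCoef false (trStart t) t.2) (c false) +
      cDot (trCoef true (trStart t) t.2) (c true) = 0) →
      (L.map fun t => trConst (trStart t) t.2).sum +
        cDot (L.map fun t => trCoef false (trStart t) t.2).sum (c false) +
        cDot (L.map fun t => trCoef true (trStart t) t.2).sum (c true) = 0 := by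
    intro L
    induction L with
    | nil => simp [cDot_zero]
    | cons t L ih =>
      intro hL
      simp only [List.map_cons, List.sum_cons, cDot_add]
      linear_combination hL t List.mem_cons_self +
        ih fun u hu => hL u (List.mem_cons_of_mem _ hu)
  have := hlist _ key
  obtain ⟨e1, e2, e3⟩ := traces_sum
  rw [e1, e2, e3, cDot_zero, cDot_zero, add_zero, add_zero] at this
  exact one_ne_zero this

theorem extension_exists :
    ∃ (E : Type) (_ : Group E) (_ : Finite E) (N : Subgroup E) (_ : N.Normal)
      (φ : E ⧸ N ≃* ↥Spor.M23) (θ : (GolayPt → ZMod 2) →+ Additive ↥N),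
      Function.Surjective θ ∧
      (∀ w : GolayPt → ZMod 2, θ w = 0 ↔ (w ∈ golayCode ∨ w + Pi.single none 1 ∈ golayCode)) ∧
      (∀ (g : E) (w : GolayPt → ZMod 2),
        ((θ (w ∘ ⇑(((φ (QuotientGroup.mk g) : ↥Spor.M23) : Equiv.Perm GolayPt)⁻¹))).toMul : E)
          = g * ((θ w).toMul : E) * g⁻¹) ∧
      ∀ H : Subgroup E, H ⊓ N = ⊥ → H ⊔ N ≠ ⊤ :=
  ⟨ExtCarrier, inferInstance, inferInstance, extProj.ker, MonoidHom.normal_ker _,
    QuotientGroup.quotientKerEquivOfSurjective extProj extProj_surjective, wordHom,
    wordHom_surjective, wordHom_ker, fun g w => wordHom_equivariant g w, fun _ h => no_complement h⟩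

end

end CfsgLib.M23Cocode
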